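import Mathlib
import Groth.Prelude.Def_FlatCA

/-! Modules which are projective over the base are universally pure. -/

set_option autoImplicit false
set_option linter.style.haveILetI false
set_option linter.unusedSectionVars false

namespace Groth.Agent.PureFib

universe u

open TensorProduct

/-- An endomorphism of a projective module congruent to a scalar `s ∉ t` modulo `t` is injective
after base change to a field where everything in `A ∖ t` is invertible. -/
theorem lTensor_injective {A : Type u} [CommRing A] (t : Ideal A) [t.IsPrime] {K : Type u} [Field K] [Algebra A K]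
    (hK : ∀ a, algebraMap A K a = 0 → a ∈ t) {V : Type u} [AddCommGroup V] [Module A V] [Module.Projective A V]
    (φ : V →ₗ[A] V) {s : A} (hs : s ∉ t) (hφ : ∀ v, φ v - s • v ∈ t • (⊤ : Submodule A V)) :
    Function.Injective (φ.lTensor K) := by
  classical
  obtain ⟨i, hi⟩ := Module.projective_def'.1 (inferInstance : Module.Projective A V)
  let r : (V →₀ A) →ₗ[A] V := Finsupp.linearCombination A id
  have hri : ∀ v, r (i v) = v := fun v => LinearMap.congr_fun hi v
  let ψ : (V →₀ A) →ₗ[A] (V →₀ A) := (i.comp φ).comp r + s • (LinearMap.id - i.comp r)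
  have hψi : ∀ v, ψ (i v) = i (φ v) := fun v => by simp [ψ, hri]
  have hψt : ∀ x j, (ψ x) j - s * x j ∈ t := by
    intro x j
    have hmem : i (φ (r x) - s • r x) ∈ t • (⊤ : Submodule A (V →₀ A)) := by
      have := Submodule.mem_map_of_mem (f := i) (hφ (r x))
      rw [Submodule.map_smul''] at this
      exact Submodule.smul_mono le_rfl le_top this
    have he : i (φ (r x) - s • r x) j = (ψ x) j - s * x j := by
      simp [ψ]; ring
    rw [← he]
    refine Submodule.smul_induction_on hmem (fun a ha y _ => ?_) (fun a b ha hb => ?_)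
    · simpa using t.mul_mem_right _ ha
    · simpa using add_mem ha hb
  rw [injective_iff_map_eq_zero]
  intro y hy
  let e : TensorProduct A K (V →₀ A) ≃ₗ[A] (V →₀ K) :=
    (finsuppRight A A K A V).trans (Finsupp.mapRange.linearEquiv (TensorProduct.rid A K))
  have he : ∀ (k : K) (x : V →₀ A) (j : V), e (k ⊗ₜ[A] x) j = x j • k := fun k x j => by simp [e]
  set Y := e (i.lTensor K y) with hY
  have hψy : ψ.lTensor K (i.lTensor K y) = 0 := by
    rw [← LinearMap.comp_apply, ← LinearMap.lTensor_comp, show ψ ∘ₗ i = i ∘ₗ φ from LinearMap.ext hψi,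
      LinearMap.lTensor_comp, LinearMap.comp_apply, hy, map_zero]
  have hexp : ∀ (z : TensorProduct A K (V →₀ A)) (j : V),
      e (ψ.lTensor K z) j = (e z).sum fun l k => (ψ (Finsupp.single l 1)) j • k := by
    intro z j
    induction z using TensorProduct.induction_on with
    | zero => simp
    | add a b ha hb =>
      rw [map_add, map_add, Finsupp.add_apply, ha, hb, map_add, Finsupp.sum_add_index]
      · simp
      · intro l _ k k'; exact smul_add _ _ _
    | tmul k x =>
      rw [LinearMap.lTensor_tmul, he]
      conv_lhs => rw [← Finsupp.sum_single x, map_finsuppSum, Finsupp.sum, Finsupp.finsetSum_apply,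
        Finset.sum_smul]
      rw [Finsupp.sum_of_support_subset (e (k ⊗ₜ[A] x)) (s := x.support) ?_ _ (fun l _ => smul_zero _)]
      · refine Finset.sum_congr rfl fun l _ => ?_
        rw [he, show Finsupp.single l (x l) = x l • Finsupp.single l (1 : A) by simp, map_smul,
          Finsupp.smul_apply, smul_eq_mul, mul_comm, mul_smul]
      · intro l hl
        rw [Finsupp.mem_support_iff, he] at hl
        exact Finsupp.mem_support_iff.2 fun h => hl (by rw [h, zero_smul])
  let T := Y.support
  let M : Matrix T T A := Matrix.of fun j l => ψ (Finsupp.single (l : V) 1) (j : V)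
  have hdet : algebraMap A K M.det ≠ 0 := by
    intro h
    have h1 : M.map (Ideal.Quotient.mk t) = Matrix.diagonal fun _ => Ideal.Quotient.mk t s := by
      ext j l
      have := hψt (Finsupp.single (l : V) 1) (j : V)
      rw [← Ideal.Quotient.eq_zero_iff_mem, map_sub, sub_eq_zero] at this
      simp only [M, Matrix.map_apply, Matrix.of_apply]
      rw [this, Matrix.diagonal_apply]
      by_cases hjl : j = l
      · subst hjl; simp
      · rw [if_neg hjl, Finsupp.single_eq_of_ne (fun h => hjl (Subtype.ext h)), mul_zero, map_zero]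
    have h2 : Ideal.Quotient.mk t M.det = 0 := Ideal.Quotient.eq_zero_iff_mem.2 (hK _ h)
    rw [RingHom.map_det, RingHom.mapMatrix_apply, h1, Matrix.det_diagonal, Finset.prod_const] at h2
    exact hs (Ideal.Quotient.eq_zero_iff_mem.1 (eq_zero_of_pow_eq_zero h2))
  let Mk : Matrix T T K := M.map (algebraMap A K)
  have hMk : Mk.mulVec (fun l => Y l) = 0 := by
    funext j
    have h0 : e (ψ.lTensor K (i.lTensor K y)) (j : V) = 0 := by rw [hψy]; simp
    rw [hexp, ← hY, Finsupp.sum, ← Finset.sum_coe_sort] at h0
    rw [Matrix.mulVec, dotProduct, Pi.zero_apply]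
    refine Eq.trans (Finset.sum_congr rfl fun l _ => ?_) h0
    simp [Mk, M, Algebra.smul_def, T]
  have hY0 : Y = 0 := by
    have hinj : Function.Injective Mk.mulVec := Matrix.mulVec_injective_iff_isUnit.2 (by
      rw [Matrix.isUnit_iff_isUnit_det]
      refine Ne.isUnit ?_
      rw [show Mk.det = algebraMap A K M.det from (RingHom.map_det _ _).symm]
      exact hdet)
    have hz := hinj (a₁ := fun l => Y l) (a₂ := 0) (by rw [hMk, Matrix.mulVec_zero])
    ext l
    by_contra hl
    exact hl (congrFun hz ⟨l, Finsupp.mem_support_iff.2 hl⟩)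
  have : i.lTensor K y = 0 := e.injective (by rw [← hY, hY0, map_zero])
  have h2 : r.lTensor K (i.lTensor K y) = y := by
    rw [← LinearMap.comp_apply, ← LinearMap.lTensor_comp, show r ∘ₗ i = LinearMap.id from hi,
      LinearMap.lTensor_id, LinearMap.id_apply]
  rw [← h2, this, map_zero]

section Fibre

variable {R : Type u} [CommRing R] (p : Ideal R) [p.IsPrime] (S : Type u) [CommRing S] [Algebra R S]
  (N : Type u) [AddCommGroup N] [Module S N] [Module R N] [IsScalarTower R S N]

noncomputable def act : p.Fiber S →ₗ[R] N →ₗ[R] TensorProduct R p.ResidueField N :=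
  TensorProduct.lift (LinearMap.mk₂ R (fun a b =>
      (TensorProduct.mk R p.ResidueField N a).comp ((LinearMap.lsmul S N b).restrictScalars R))
      (fun a a' b => by ext v; simp [add_tmul]) (fun r a b => by ext v; simp [smul_tmul'])
      (fun a b b' => by ext v; simp [add_smul, tmul_add]) (fun r a b => by ext v; simp [tmul_smul]))

attribute [local instance] Algebra.TensorProduct.rightAlgebra

theorem act_smul (s : S) (z : p.Fiber S) (n : N) : act p S N (s • z) n = act p S N z (s • n) := by
  induction z using TensorProduct.induction_on with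
  | zero => simp
  | tmul a b =>
    have e : s • (a ⊗ₜ[R] b : p.Fiber S) = a ⊗ₜ[R] (s * b) := by
      rw [Algebra.smul_def]
      show ((1 : p.ResidueField) ⊗ₜ[R] s) * (a ⊗ₜ[R] b) = _
      rw [Algebra.TensorProduct.tmul_mul_tmul, one_mul]
    rw [e]
    simp [act, ← mul_smul, mul_comm s b]
  | add x y hx hy => rw [smul_add, map_add, map_add, LinearMap.add_apply, LinearMap.add_apply, hx, hy]

noncomputable def toBase : TensorProduct S (p.Fiber S) N →+ TensorProduct R p.ResidueField N :=
  TensorProduct.liftAddHom
    (AddMonoidHom.mk' (fun z => (act p S N z).toAddMonoidHom) fun a b => by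
      ext n; simp)
    fun s z n => by
      show act p S N (s • z) n = act p S N z (s • n)
      exact act_smul p S N s z n

theorem toBase_injective : Function.Injective (toBase p S N) := by
  let back : TensorProduct R p.ResidueField N →+ TensorProduct S (p.Fiber S) N :=
    TensorProduct.liftAddHom
      (AddMonoidHom.mk' (fun a => AddMonoidHom.mk' (fun n => (a ⊗ₜ[R] (1 : S) : p.Fiber S) ⊗ₜ[S] n)
        (fun m n => TensorProduct.tmul_add _ m n)) fun a b => by
          ext n; simp [add_tmul])
      fun r a n => by
        show ((r • a) ⊗ₜ[R] (1 : S) : p.Fiber S) ⊗ₜ[S] n = (a ⊗ₜ[R] (1 : S) : p.Fiber S) ⊗ₜ[S] (r • n)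
        rw [← IsScalarTower.algebraMap_smul S r n, ← TensorProduct.smul_tmul, Algebra.smul_def (algebraMap R S r)]
        congr 1
        show _ = ((1 : p.ResidueField) ⊗ₜ[R] algebraMap R S r) * (a ⊗ₜ[R] (1 : S))
        rw [Algebra.TensorProduct.tmul_mul_tmul, one_mul, mul_one, Algebra.algebraMap_eq_smul_one,
          ← TensorProduct.smul_tmul]
  refine Function.LeftInverse.injective (g := back) fun x => ?_
  induction x using TensorProduct.induction_on with
  | zero => simp
  | add a b ha hb => rw [map_add, map_add, ha, hb]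
  | tmul z n =>
    induction z using TensorProduct.induction_on generalizing n with
    | zero => simp
    | add a b ha hb => rw [TensorProduct.add_tmul, map_add, map_add, ha, hb]
    | tmul a b =>
      show ((a ⊗ₜ[R] (1 : S) : p.Fiber S)) ⊗ₜ[S] (b • n) = _
      rw [← TensorProduct.smul_tmul]
      congr 1
      rw [Algebra.smul_def]
      show ((1 : p.ResidueField) ⊗ₜ[R] b) * (a ⊗ₜ[R] (1 : S)) = _
      rw [Algebra.TensorProduct.tmul_mul_tmul, one_mul, mul_one]

theorem toBase_mul (s : S) (x : TensorProduct S (p.Fiber S) N) :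
    toBase p S N (((1 : p.ResidueField) ⊗ₜ[R] s : p.Fiber S) • x)
      = ((LinearMap.lsmul S N s).restrictScalars R).lTensor p.ResidueField (toBase p S N x) := by
  induction x using TensorProduct.induction_on with
  | zero => simp
  | add a b ha hb => rw [smul_add, map_add, map_add, map_add, ha, hb]
  | tmul z n =>
    induction z using TensorProduct.induction_on generalizing n with
    | zero => simp
    | add a b ha hb => rw [TensorProduct.add_tmul, smul_add, map_add, map_add, map_add, ha, hb]
    | tmul a b =>
      rw [TensorProduct.smul_tmul', smul_eq_mul]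
      erw [Algebra.TensorProduct.tmul_mul_tmul]
      rw [one_mul]
      show a ⊗ₜ[R] ((s * b) • n) = LinearMap.lTensor _ _ (a ⊗ₜ[R] (b • n))
      rw [LinearMap.lTensor_tmul, LinearMap.coe_restrictScalars, LinearMap.lsmul_apply, mul_smul]

end Fibre

attribute [local instance] Algebra.TensorProduct.rightAlgebra in
theorem isUnivPure_of_projective {A B : Type u} [CommRing A] [CommRing B] [Algebra A B] (N : Type u)
    [AddCommGroup N] [Module B N] [Module A N] [IsScalarTower A B N] [Module.Projective A N] :
    FlatCA.IsUnivPure A B N := by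
  intro p _ A' B' N' _ _ _ _ _ _ _ _ _ _ _ _ _ _ f t' t _ _ P _ h
  obtain ⟨hpush, hbc, hle, _, _, hass, hno⟩ := h
  haveI : Algebra.IsPushout A A' B B' := hpush.symm
  haveI : Module.Projective A' N' :=
    Module.Projective.of_equiv (((Algebra.IsPushout.cancelBaseChange A A' B B' N).symm.trans
      (hbc.equiv.restrictScalars A')))
  obtain ⟨s, hst, u, huP, τ, hτ, hsum⟩ : ∃ s : A', s ∉ t ∧ ∃ u ∈ P, ∃ τ ∈ t.map (algebraMap A' B'),
      u + τ = algebraMap A' B' s := by
    by_contra hcon
    push Not at hcon
    obtain ⟨P', hP', hle', hdis⟩ := (P ⊔ t.map (algebraMap A' B')).exists_le_prime_disjoint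
      (Submonoid.map (algebraMap A' B') t.primeCompl) (by
        rw [Set.disjoint_left]
        rintro z hz ⟨s, hs, rfl⟩
        obtain ⟨u, hu, τ, hτ, e⟩ := Submodule.mem_sup.1 hz
        exact hcon s hs u hu τ hτ e)
    refine hno P' (le_sup_left.trans hle') ⟨le_antisymm (fun a ha => ?_) fun a ha => ?_⟩
    · exact hle' (Ideal.mem_sup_right (Ideal.mem_map_of_mem _ ha))
    · by_contra hat
      exact Set.disjoint_left.1 hdis ha ⟨a, hat, rfl⟩
  obtain ⟨hprime, x, hx⟩ := hass
  have hu : (1 : t'.ResidueField) ⊗ₜ[A'] u ∈ FlatCA.fiberIdeal t' P :=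
    Ideal.mem_map_of_mem _ huP
  rw [hx] at hu
  obtain ⟨n, hn⟩ := hu
  rw [Submodule.mem_colon_singleton, Submodule.mem_bot] at hn
  let φ : N' →ₗ[A'] N' := (LinearMap.lsmul B' N' u).restrictScalars A'
  have hφ : ∀ v, φ v - s • v ∈ t • (⊤ : Submodule A' N') := by
    intro v
    show u • v - s • v ∈ _
    rw [← IsScalarTower.algebraMap_smul B' s v, ← sub_smul,
      show u - algebraMap A' B' s = -τ by rw [← hsum]; ring, neg_smul]
    refine Submodule.neg_mem _ ?_
    have hgen : ∀ z ∈ t.map (algebraMap A' B'), ∀ v : N', z • v ∈ t • (⊤ : Submodule A' N') := by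
      intro z hz
      induction hz using Submodule.span_induction with
      | mem z hz =>
        obtain ⟨a, ha, rfl⟩ := hz
        intro v
        rw [IsScalarTower.algebraMap_smul]
        exact Submodule.smul_mem_smul ha trivial
      | zero => intro v; rw [zero_smul]; exact zero_mem _
      | add a b _ _ ha hb => intro v; rw [add_smul]; exact add_mem (ha v) (hb v)
      | smul a b _ hb => intro v; rw [smul_eq_mul, mul_comm, mul_smul]; exact hb (a • v)
    exact hgen τ hτ v
  have hinj : Function.Injective (φ.lTensor t'.ResidueField) :=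
    lTensor_injective t (fun a ha => hle (Ideal.algebraMap_residueField_eq_zero.1 ha)) φ hst hφ
  have hzero : ∀ (k : ℕ) (z : TensorProduct B' (t'.Fiber B') N'),
      ((1 : t'.ResidueField) ⊗ₜ[A'] u : t'.Fiber B') ^ k • z = 0 → z = 0 := by
    intro k
    induction k with
    | zero => intro z hz; simpa using hz
    | succ k ih =>
      intro z hz
      rw [pow_succ, mul_smul] at hz
      have h1 := ih _ hz
      have h2 := toBase_mul t' B' N' u z
      rw [h1, map_zero] at h2
      exact toBase_injective t' B' N' ((hinj (h2.symm.trans (map_zero _).symm)).trans (map_zero _).symm)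
  have hx0 : x = (0 : TensorProduct B' (t'.Fiber B') N') := hzero n x hn
  refine hprime.ne_top ?_
  rw [hx, eq_top_iff]
  intro z _
  refine Ideal.le_radical ?_
  rw [Submodule.mem_colon_singleton, Submodule.mem_bot]
  rw [show x = 0 from hx0]
  exact smul_zero _

end Groth.Agent.PureFib
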